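/-
Coset enumeration data, found by a computer search; checked by `decide +kernel`.
-/
import Cfsg.Agent.Lib.Spor.TC.Check
import Cfsg.Agent.Lib.Spor.JThreeUnique.KillTwo.Part0

namespace CfsgLib.Spor.JThreeUnique.KillTwo

open CfsgLib.Spor.TC

theorem steps_ok : cert.StepsOK 0 1977 :=
  steps0

theorem rows_ok : cert.RowsOK 1977 1 0 1 :=
  rows0

theorem row_zero : cert.rowNode 0 = 0 := by decide +kernel

theorem index_bound {G : Type*} [Group G] (g : ℕ → G) (hg : ∀ x, g x * g x = 1) (hk : g 6 = 1)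
    (hgen : Subgroup.closure (g '' Set.Iio 6) = ⊤) (hrels : ∀ r ∈ baseRels, ev g r = 1) (H : Subgroup G)
    (hsubs : ∀ r ∈ subs, ev g r ∈ H) : H.index ≠ 0 ∧ H.index ≤ 1 :=
  cert.index_le steps_ok rows_ok row_zero (by decide) g hg hk hgen (ev_covered hg covered hrels) H hsubs

end CfsgLib.Spor.JThreeUnique.KillTwo
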